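import Groth.Agent.L02.CAlg.QFSlice.Slice
import Groth.Agent.L28.PtFun.Spec
import Mathlib.RingTheory.Etale.QuasiFinite
import Mathlib.RingTheory.Spectrum.Prime.Chevalley
import Mathlib.AlgebraicGeometry.Morphisms.Finite
import Mathlib.AlgebraicGeometry.Morphisms.Flat
import Mathlib.AlgebraicGeometry.Morphisms.FinitePresentation
import Mathlib.AlgebraicGeometry.Morphisms.Etale

/-! An fppf cover is refined by residually trivial étale maps followed by finite flat covers. -/

set_option autoImplicit false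
set_option linter.style.haveILetI false
universe u

open CategoryTheory AlgebraicGeometry TensorProduct

namespace Groth.Agent.L13.FppfLocal

/-- Near a prime of the base, a flat quasi-finite algebra of finite presentation becomes finite after
an étale map with trivial residue extension. -/
theorem exists_etale_finiteFlat {R : Type u} [CommRing R] (p : Ideal R) [p.IsPrime]
    {S : Type u} [CommRing S] [Algebra R S] [Module.Flat R S] [Algebra.FinitePresentation R S]
    [Algebra.QuasiFinite R S] (hp : (⟨p, inferInstance⟩ : PrimeSpectrum R) ∈ Set.range (PrimeSpectrum.comap (algebraMap R S))) :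
    ∃ (R' : Type u) (_ : CommRing R') (_ : Algebra R R') (_ : Algebra.Etale R R') (P : Ideal R')
      (_ : P.IsPrime) (_ : P.LiesOver p) (B : Type u) (_ : CommRing B) (_ : Algebra R' B) (σ : S →+* B),
      σ.comp (algebraMap R S) = (algebraMap R' B).comp (algebraMap R R') ∧
      Module.Finite R' B ∧ Module.Flat R' B ∧ Algebra.FinitePresentation R' B ∧
      (⟨P, inferInstance⟩ : PrimeSpectrum R') ∈ Set.range (PrimeSpectrum.comap (algebraMap R' B)) ∧
      Function.Bijective (Ideal.ResidueField.mapₐ p P (Algebra.ofId _ _) (P.over_def p)) := by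
  obtain ⟨⟨q, hq⟩, hqp⟩ := hp
  haveI : q.LiesOver p := ⟨(congr_arg PrimeSpectrum.asIdeal hqp).symm⟩
  obtain ⟨R', _, _, _, P, _, _, e, he, P', _, _, -, heP', hres, hfin, -⟩ :=
    Algebra.exists_etale_isIdempotentElem_forall_liesOver_eq (R := R) (S := S) p q
  haveI : Module.Flat R' (Localization.Away e) := Module.Flat.trans R' (R' ⊗[R] S) _
  haveI : Algebra.FinitePresentation R' (Localization.Away e) :=
    Algebra.FinitePresentation.trans R' (R' ⊗[R] S) _
  refine ⟨R', inferInstance, inferInstance, inferInstance, P, inferInstance, inferInstance,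
    Localization.Away e, inferInstance, inferInstance,
    (algebraMap (R' ⊗[R] S) (Localization.Away e)).comp
      (Algebra.TensorProduct.includeRight : S →ₐ[R] R' ⊗[R] S).toRingHom, ?_, hfin, inferInstance, inferInstance, ?_, hres⟩
  · refine RingHom.ext fun r => ?_
    show algebraMap (R' ⊗[R] S) _ ((1 : R') ⊗ₜ[R] algebraMap R S r) = _
    rw [RingHom.comp_apply, IsScalarTower.algebraMap_apply R' (R' ⊗[R] S) (Localization.Away e)]
    congr 1
    exact (Algebra.TensorProduct.includeRight : S →ₐ[R] R' ⊗[R] S).commutes r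
  · obtain ⟨Q, hQ⟩ : (⟨P', inferInstance⟩ : PrimeSpectrum (R' ⊗[R] S)) ∈
        Set.range (PrimeSpectrum.comap (algebraMap (R' ⊗[R] S) (Localization.Away e))) := by
      rw [PrimeSpectrum.localization_away_comap_range _ e]
      exact heP'
    refine ⟨Q, ?_⟩
    rw [IsScalarTower.algebraMap_eq R' (R' ⊗[R] S) (Localization.Away e), PrimeSpectrum.comap_comp_apply, hQ]
    exact PrimeSpectrum.ext (P'.over_def P).symm

theorem isIso_residueFieldMap_spec {R R' : Type u} [CommRing R] [CommRing R'] [Algebra R R']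
    (p : Ideal R) [p.IsPrime] (P : Ideal R') [P.IsPrime] [P.LiesOver p]
    (h : Function.Bijective (Ideal.ResidueField.mapₐ p P (Algebra.ofId _ _) (P.over_def p))) :
    IsIso ((Spec.map (CommRingCat.ofHom (algebraMap R R'))).residueFieldMap ⟨P, inferInstance⟩) := by
  refine (ConcreteCategory.isIso_iff_bijective _).2 ⟨RingHom.injective _, fun y => ?_⟩
  let Q : ↥(Spec (CommRingCat.of R')) := ⟨P, inferInstance⟩
  haveI : Q.asIdeal.IsPrime := Q.isPrime
  haveI : ((Spec.map (CommRingCat.ofHom (algebraMap R R'))) Q).asIdeal.IsPrime := PrimeSpectrum.isPrime _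
  obtain rfl : p = ((Spec.map (CommRingCat.ofHom (algebraMap R R'))) Q).asIdeal := P.over_def p
  obtain ⟨z, hz⟩ := h.2 (Groth.L28.PtFun.toIdealRF Q y)
  refine ⟨(Scheme.Spec.residueFieldIso (CommRingCat.of R) _).inv z, Groth.L28.PtFun.toIdealRF_injective Q ?_⟩
  refine (Groth.L28.PtFun.toIdealRF_naturality (algebraMap R R') Q _).trans (Eq.trans ?_ hz)
  rw [show Groth.L28.PtFun.toIdealRF ((Spec.map (CommRingCat.ofHom (algebraMap R R'))) Q)
      ((Scheme.Spec.residueFieldIso (CommRingCat.of R) _).inv z) = z from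
    congr($((Scheme.Spec.residueFieldIso (CommRingCat.of R) _).inv_hom_id).hom z)]
  rfl

theorem exists_refinement_at {X W : Scheme.{u}} (w : W ⟶ X) [Flat w] [LocallyOfFinitePresentation w] (a : W) :
    ∃ (U V : Scheme.{u}) (u : U ⟶ X) (v : V ⟶ U) (y : U) (r : V ⟶ W),
      Etale u ∧ u y = w a ∧ IsIso (u.residueFieldMap y) ∧
      (IsFinite v ∧ Flat v ∧ Surjective v) ∧ r ≫ w = v ≫ u := by
  obtain ⟨W₀, hW₀, hxW₀, -⟩ := exists_isAffineOpen_mem_and_subset (x := w a) (U := (⊤ : X.Opens)) trivial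
  obtain ⟨D, hD, haD, hDle⟩ := exists_isAffineOpen_mem_and_subset (x := a) (U := w ⁻¹ᵁ W₀) hxW₀
  let φ : Γ(X, W₀) ⟶ Γ(W, D) := w.appLE W₀ D hDle
  letI := φ.hom.toAlgebra
  haveI : Module.Flat Γ(X, W₀) Γ(W, D) := w.flat_appLE hW₀ hD hDle
  haveI : Algebra.FinitePresentation Γ(X, W₀) Γ(W, D) := w.finitePresentation_appLE hW₀ hD hDle
  obtain ⟨p, hp⟩ : w a ∈ Set.range hW₀.fromSpec := by rw [hW₀.range_fromSpec]; exact hxW₀
  obtain ⟨q, hq⟩ : a ∈ Set.range hD.fromSpec := by rw [hD.range_fromSpec]; exact haD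
  have hqp : PrimeSpectrum.comap φ.hom q = p := by
    apply hW₀.fromSpec.isOpenEmbedding.injective
    rw [hp, ← hq, ← Scheme.Hom.comp_apply, ← IsAffineOpen.SpecMap_appLE_fromSpec w hW₀ hD hDle]
    rfl
  haveI : Nontrivial (p.asIdeal.Fiber Γ(W, D)) :=
    (PrimeSpectrum.preimageEquivFiber Γ(X, W₀) Γ(W, D) p ⟨q, hqp⟩).nontrivial
  obtain ⟨S, _, _, _, _, _, ⟨ψ⟩, hS⟩ := L02.CAlg.QFSlice.exists_local (R := Γ(X, W₀)) (S := Γ(W, D)) p.asIdeal
  obtain ⟨R', _, _, _, P, _, _, B, _, _, σ, hσ, _, _, _, hPB, hres⟩ := exists_etale_finiteFlat p.asIdeal hS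
  let ρ : CommRingCat.of R' ⟶ CommRingCat.of B := CommRingCat.ofHom (algebraMap R' B)
  let η : Γ(X, W₀) ⟶ CommRingCat.of R' := CommRingCat.ofHom (algebraMap Γ(X, W₀) R')
  haveI : Etale (Spec.map η) := (HasRingHomProperty.Spec_iff (P := @Etale)).2
    (RingHom.etale_algebraMap.2 inferInstance)
  haveI : IsFinite (Spec.map ρ) := (IsFinite.SpecMap_iff _).2 (RingHom.finite_algebraMap.2 inferInstance)
  haveI : Flat (Spec.map ρ) := (HasRingHomProperty.Spec_iff (P := @Flat)).2
    (RingHom.flat_algebraMap_iff.2 inferInstance)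
  let O : (Spec (CommRingCat.of R')).Opens := ⟨Set.range (PrimeSpectrum.comap (algebraMap R' B)),
    (PrimeSpectrum.isOpenMap_comap_of_hasGoingDown_of_finitePresentation (R := R') (S := B)).isOpen_range⟩
  let y : O := ⟨⟨P, inferInstance⟩, hPB⟩
  refine ⟨O, _, O.ι ≫ Spec.map η ≫ hW₀.fromSpec, Spec.map ρ ∣_ O, y,
    (Spec.map ρ ⁻¹ᵁ O).ι ≫ Spec.map (CommRingCat.ofHom (σ.comp ψ.toRingHom)) ≫ hD.fromSpec,
    inferInstance, ?_, ?_, ⟨inferInstance, inferInstance, ⟨?_⟩⟩, ?_⟩
  · show hW₀.fromSpec ((Spec.map η) ⟨P, inferInstance⟩) = w a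
    rw [← hp]
    congr 1
    exact PrimeSpectrum.ext (P.over_def p.asIdeal).symm
  · rw [Scheme.residueFieldMap_comp, Scheme.residueFieldMap_comp]
    haveI h2 : IsIso ((Spec.map η).residueFieldMap (O.ι y)) := isIso_residueFieldMap_spec p.asIdeal P hres
    haveI : IsIso (O.ι.residueFieldMap y) := inferInstance
    haveI := hW₀.isOpenImmersion_fromSpec
    have h1 : IsIso (hW₀.fromSpec.residueFieldMap ((Spec.map η) (O.ι y))) := inferInstance
    exact @IsIso.comp_isIso _ _ _ _ _ _ _ (@IsIso.comp_isIso _ _ _ _ _ _ _ h1 h2) inferInstance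
  · rintro ⟨z, ⟨b, rfl⟩⟩
    exact ⟨⟨b, ⟨b, rfl⟩⟩, Subtype.ext (by simp; rfl)⟩
  · rw [morphismRestrict_ι_assoc, Category.assoc, Category.assoc,
      ← IsAffineOpen.SpecMap_appLE_fromSpec w hW₀ hD hDle, ← Spec.map_comp_assoc, ← Spec.map_comp_assoc]
    congr 3
    ext r
    show σ (ψ (algebraMap Γ(X, W₀) Γ(W, D) r)) = algebraMap R' B (algebraMap Γ(X, W₀) R' r)
    rw [ψ.commutes]
    exact RingHom.congr_fun hσ r

end Groth.Agent.L13.FppfLocal
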