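import Groth.Prelude.Def_Curves
import Mathlib.AlgebraicGeometry.Sites.MorphismProperty
import Mathlib.AlgebraicGeometry.Morphisms.Finite
import Mathlib.AlgebraicGeometry.Morphisms.Flat
import Mathlib.AlgebraicGeometry.Morphisms.FinitePresentation
import Mathlib.AlgebraicGeometry.Morphisms.QuasiSeparated
import Mathlib.RingTheory.AdjoinRoot
import Mathlib.RingTheory.LocalRing.Basic
import Mathlib.RingTheory.FinitePresentation
import Mathlib.RingTheory.Spectrum.Prime.RingHom
import Mathlib.RingTheory.LocalRing.ResidueField.Ideal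
import Mathlib.RingTheory.Polynomial.ScaleRoots
import Mathlib.Algebra.Polynomial.Lifts
import Mathlib.FieldTheory.IsAlgClosed.Basic

/-! Locality of an affine scheme for finite flat coverings. -/

set_option autoImplicit false
universe u

open CategoryTheory AlgebraicGeometry Polynomial Limits

namespace Groth.Agent.L13.FppfLocal

variable (A : Type u) [CommRing A]

/-- `Spec A` is local for `P`-coverings. -/
def IsLocalFor (P : MorphismProperty Scheme.{u}) : Prop :=
  ∀ (X : Scheme.{u}) (R : Presieve X), R ∈ Scheme.precoverage P X →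
    ∀ g : Spec (CommRingCat.of A) ⟶ X,
      ∃ (Y : Scheme.{u}) (v : Y ⟶ X) (h : Spec (CommRingCat.of A) ⟶ Y), R v ∧ h ≫ v = g

variable {A}

/-- A `P`-covering of `Spec A` by affines yields a retraction of one of the members. -/
theorem exists_retraction {P : MorphismProperty Scheme.{u}} (hloc : IsLocalFor A P)
    {ι : Type u} (B : ι → CommRingCat.{u}) (φ : ∀ i, CommRingCat.of A ⟶ B i)
    (hP : ∀ i, P (Spec.map (φ i)))
    (hcov : ∀ x : PrimeSpectrum A, ∃ i, ∃ y : PrimeSpectrum (B i), PrimeSpectrum.comap (φ i).hom y = x) :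
    ∃ (i : ι) (s : B i ⟶ CommRingCat.of A), φ i ≫ s = 𝟙 _ := by
  obtain ⟨Y, v, h, hR, hh⟩ := hloc _ (Presieve.ofArrows (fun i => Spec (B i)) (fun i => Spec.map (φ i)))
    ((Scheme.ofArrows_mem_precoverage_iff P).2 ⟨fun x => by
      obtain ⟨i, y, hy⟩ := hcov x
      exact ⟨i, y, hy⟩, hP⟩) (𝟙 _)
  cases hR with
  | mk i =>
    refine ⟨i, Spec.preimage h, Spec.map_injective ?_⟩
    rw [Spec.map_comp, Spec.map_preimage, hh, Spec.map_id]

theorem exists_root {P : MorphismProperty Scheme.{u}} (hloc : IsLocalFor A P)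
    (hP : ∀ (B : CommRingCat.{u}) (φ : CommRingCat.of A ⟶ B), φ.hom.Finite → φ.hom.Flat →
      φ.hom.FinitePresentation → P (Spec.map φ))
    (G : A[X]) (hG : G.Monic) (hd : 0 < G.natDegree) : ∃ r : A, G.eval r = 0 := by
  let φ : CommRingCat.of A ⟶ CommRingCat.of (AdjoinRoot G) := CommRingCat.ofHom (algebraMap A (AdjoinRoot G))
  haveI : Module.Finite A (AdjoinRoot G) := hG.finite_adjoinRoot
  haveI : Module.Free A (AdjoinRoot G) := hG.free_adjoinRoot
  have hinj : Function.Injective (algebraMap A (AdjoinRoot G)) := by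
    rw [injective_iff_map_eq_zero]
    intro a ha
    by_contra h0
    rw [AdjoinRoot.algebraMap_eq, AdjoinRoot.of, RingHom.comp_apply, AdjoinRoot.mk_eq_zero] at ha
    exact hG.not_dvd_of_natDegree_lt (Polynomial.C_ne_zero.2 h0) (by rwa [Polynomial.natDegree_C]) ha
  obtain ⟨-, s, hs⟩ := exists_retraction hloc (fun _ : PUnit.{u + 1} => CommRingCat.of (AdjoinRoot G))
    (fun _ => φ)
    (fun _ => hP _ _ (RingHom.finite_algebraMap.2 inferInstance) (RingHom.flat_algebraMap_iff.2 inferInstance)
      (RingHom.finitePresentation_algebraMap.2 inferInstance))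
    (fun x => ⟨PUnit.unit, (RingHom.IsIntegral.comap_surjective (f := algebraMap A (AdjoinRoot G))
      (algebraMap_isIntegral_iff.2 inferInstance) hinj) x⟩)
  refine ⟨s.hom (AdjoinRoot.root G), ?_⟩
  have h := congr_arg s.hom (AdjoinRoot.eval₂_root G)
  rw [Polynomial.hom_eval₂, map_zero] at h
  rwa [show s.hom.comp (AdjoinRoot.of G) = RingHom.id A from congr_arg CommRingCat.Hom.hom hs,
    ← Polynomial.eval] at h

theorem isAlgClosed_residueField {P : MorphismProperty Scheme.{u}} (hloc : IsLocalFor A P)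
    (hP : ∀ (B : CommRingCat.{u}) (φ : CommRingCat.of A ⟶ B), φ.hom.Finite → φ.hom.Flat →
      φ.hom.FinitePresentation → P (Spec.map φ))
    (p : Ideal A) [p.IsPrime] : IsAlgClosed p.ResidueField := by
  refine IsAlgClosed.of_exists_root _ fun f hf hirr => ?_
  let ι := algebraMap A p.ResidueField
  obtain ⟨b, hb⟩ := IsLocalization.exist_integer_multiples (nonZeroDivisors (A ⧸ p)) f.support f.coeff
  obtain ⟨t₀, ht₀⟩ := Ideal.Quotient.mk_surjective (b : A ⧸ p)
  have hι : ι t₀ = algebraMap (A ⧸ p) p.ResidueField b := by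
    rw [← ht₀, ← Ideal.Quotient.algebraMap_eq, ← IsScalarTower.algebraMap_apply]
  have ht : ι t₀ ≠ 0 := hι ▸ IsFractionRing.to_map_ne_zero_of_mem_nonZeroDivisors b.2
  have hcoeff : ∀ i, (f.scaleRoots (ι t₀)).coeff i ∈ Set.range ι := by
    intro i
    rw [Polynomial.coeff_scaleRoots]
    by_cases hi : i ∈ f.support
    · rcases Nat.eq_or_lt_of_le (Polynomial.le_natDegree_of_mem_supp i hi) with hin | hin
      · exact ⟨1, by rw [hin, Nat.sub_self, pow_zero, mul_one, hf.coeff_natDegree, map_one]⟩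
      · obtain ⟨x, hx⟩ := hb i hi
        obtain ⟨y, rfl⟩ := Ideal.Quotient.mk_surjective x
        refine ⟨y * t₀ ^ (f.natDegree - i - 1), ?_⟩
        rw [show f.natDegree - i = (f.natDegree - i - 1) + 1 by omega, pow_succ', map_mul, map_pow,
          Nat.add_sub_cancel, hι]
        rw [Algebra.smul_def] at hx
        rw [show ι y = algebraMap (A ⧸ p) p.ResidueField (Ideal.Quotient.mk p y) by
          rw [← Ideal.Quotient.algebraMap_eq, ← IsScalarTower.algebraMap_apply], hx]
        ring
    · exact ⟨0, by rw [Polynomial.notMem_support_iff.1 hi, zero_mul, map_zero]⟩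
  obtain ⟨G, hG1, hG2, hG3⟩ := Polynomial.lifts_and_degree_eq_and_monic
    ((Polynomial.lifts_iff_coeff_lifts _).2 hcoeff) ((Polynomial.monic_scaleRoots_iff _).2 hf)
  have hd : 0 < G.natDegree := by
    rw [Polynomial.natDegree_eq_of_degree_eq hG2, Polynomial.natDegree_scaleRoots]
    exact hirr.natDegree_pos
  obtain ⟨r, hr⟩ := exists_root hloc hP G hG3 hd
  refine ⟨ι r / ι t₀, ?_⟩
  have h1 : (f.scaleRoots (ι t₀)).eval (ι t₀ * (ι r / ι t₀)) = 0 := by
    rw [mul_div_cancel₀ _ ht, ← hG1, Polynomial.eval_map, Polynomial.eval₂_hom, hr, map_zero]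
  rw [Polynomial.scaleRoots_eval_mul] at h1
  exact (mul_eq_zero.1 h1).resolve_left (pow_ne_zero _ ht)

/-- In a domain over an absolutely integrally closed ring integral elements come from the base. -/
theorem mem_range_of_isAIC {D : Type u} [CommRing D] [IsDomain D] (θ : A →+* D) (hA : Curves.IsAIC A)
    {b : D} (hb : θ.IsIntegralElem b) : b ∈ Set.range θ := by
  obtain ⟨G, hG, hGb⟩ := hb
  haveI : Nontrivial A := θ.domain_nontrivial
  induction hn : G.natDegree using Nat.strong_induction_on generalizing G with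
  | _ n ih =>
    rcases Nat.eq_zero_or_pos n with rfl | hpos
    · rw [hG.natDegree_eq_zero.1 hn, Polynomial.eval₂_one] at hGb
      exact absurd hGb one_ne_zero
    · obtain ⟨r, hr⟩ := hA G hG (hn ▸ hpos)
      obtain ⟨G', rfl⟩ := Polynomial.dvd_iff_isRoot.2 hr
      have hG' : G'.Monic := (monic_X_sub_C r).of_mul_monic_left hG
      rw [Polynomial.eval₂_mul, Polynomial.eval₂_sub, Polynomial.eval₂_X, Polynomial.eval₂_C] at hGb
      rcases mul_eq_zero.1 hGb with h | h
      · exact ⟨r, (sub_eq_zero.1 h).symm⟩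
      · refine ih G'.natDegree ?_ G' hG' h rfl
        rw [(monic_X_sub_C r).natDegree_mul hG', natDegree_X_sub_C] at hn
        omega

end Groth.Agent.L13.FppfLocal
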